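import Cfsg.Agent.H38.Fi22C.Dich
import Cfsg.Agent.H64.Fi22C.Defs

/-!
With two fixed dimensions the image of `z` is isolated in the centraliser of `a` modulo `⟨a⟩`.
-/

set_option autoImplicit false
set_option linter.unusedSectionVars false

namespace H79.Fi22C

open H39.Fi22C H38.U6C H38.Fi22C

universe u v

section

variable {G : Type u} [Group G] [Finite G] {F : Type v} [Field F] [Fintype F] {z a : G}
  {J H₀ U : Subgroup G} {π : ↥H₀ →* Cfsg.PSp 2 F} (S : Setup3 z a J H₀ π)
  (hU : FixJ z a J H₀ U) {Q : Type u} [Group Q]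
  {f : ↥(Subgroup.centralizer ({a} : Set G)) →* Q}
  (hs : Function.Surjective f) (hk : ∀ g, f g = 1 ↔ ((g : G) = 1 ∨ (g : G) = a))

include S hk in
theorem of_mem_four {x : ↥(Subgroup.centralizer ({a} : Set G))}
    (h : (x : G) = 1 ∨ (x : G) = z ∨ (x : G) = a ∨ (x : G) = a * z) :
    f x = 1 ∨ f x = f (zA S) := by
  rcases h with h | h | h | h
  · exact Or.inl ((hk x).2 (Or.inl h))
  · exact Or.inr (congrArg f (Subtype.ext h))
  · exact Or.inl ((hk x).2 (Or.inr h))
  · right
    have : x = ⟨a, H₀_le_ca S (S.J_le S.a_mem)⟩ * zA S := Subtype.ext h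
    rw [this, map_mul, (hk _).2 (Or.inr rfl), one_mul]

include S hU hs hk

/-- The image of the fixed plane. -/
theorem fixed_image :
    im f U ≤ im f J ∧ f (zA S) ∈ im f U ∧ Nat.card (im f U) = 8 ∧
    (∀ u ∈ im f U, (∀ v ∈ im f U, Commute u v) → u = 1 ∨ u = f (zA S)) ∧
    ∀ g ∈ im f H₀, ∀ u ∈ im f U, g * u * g⁻¹ = u ∨ g * u * g⁻¹ = u * f (zA S) := by
  have hUa : U ≤ Subgroup.centralizer ({a} : Set G) :=
    fun u hu => H₀_le_ca S (S.J_le (hU.le hu))
  refine ⟨im_mono f hU.le, ⟨zA S, hU.z_mem, rfl⟩, ?_, ?_, ?_⟩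
  · have := card_im S hs hk hU.a_mem hUa
    rw [hU.card] at this
    omega
  · rintro _ ⟨x, hx, rfl⟩ hc
    refine of_mem_four S hk (hU.nondeg _ hx fun q hq => ?_)
    rcases S.comm_mem _ (hU.le hx) q (hU.le hq) with h | h
    · exact h
    exfalso
    let y : ↥(Subgroup.centralizer ({a} : Set G)) := ⟨q, hUa hq⟩
    have h1 := (hc (f y) ⟨y, hq, rfl⟩).eq
    have h2 : f x * f y = f y * f x * f (zA S) := by
      rw [← map_mul, ← map_mul, ← map_mul, show x * y = y * x * zA S from Subtype.ext h]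
    rw [h1] at h2
    exact zA_ne S hk (left_eq_mul.1 h2)
  · rintro _ ⟨g, hg, rfl⟩ _ ⟨x, hx, rfl⟩
    have h := of_mem_four S hk (x := x⁻¹ * (g * x * g⁻¹)) (hU.fix _ hg _ hx)
    simp only [map_mul, map_inv] at h
    rcases h with h | h
    · exact Or.inl (inv_mul_eq_one.1 h).symm
    · exact Or.inr (inv_mul_eq_iff_eq_mul.1 h)

end

variable {G : Type u} [Group G] [Finite G] {F : Type v} [Field F] [Fintype F] {z a : G}
  {J H₀ U : Subgroup G} {π : ↥H₀ →* Cfsg.PSp 2 F}

/-- The case in which an element exchanges `a` and `az`. -/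
theorem dead_swap (S : Setup3 z a J H₀ π) (hU : FixJ z a J H₀ U) (hsw : Swap z a) : Dead z a := by
  haveI := kerA_normal a
  let f := QuotientGroup.mk' (kerA a)
  have hs : Function.Surjective f := QuotientGroup.mk'_surjective _
  have hk : ∀ g, f g = 1 ↔ ((g : G) = 1 ∨ (g : G) = a) := fun g =>
    (QuotientGroup.eq_one_iff g).trans (mem_kerA S.a_sq g)
  have hcent : Subgroup.centralizer
      ({f (zA S)} : Set (↥(Subgroup.centralizer ({a} : Set G)) ⧸ kerA a)) = im f H₀ := by
    rw [im_cent S hs hk]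
    refine le_antisymm ?_ (im_mono f S.le_cent)
    rintro _ ⟨x, hx, rfl⟩
    exact ⟨x, mem_H₀_of_swap S hsw hx x.2, rfl⟩
  obtain ⟨π', hπs, hπk⟩ := exists_proj S hk
  obtain ⟨hc1, hc2, hc3, hc4, hc5⟩ := core_image S hs hk
  have hB : H38.U6C.Base (f (zA S)) (im f J)
      (π'.comp (MulEquiv.subgroupCongr hcent).toMonoidHom) :=
    ⟨S.card_F, zA_sq S, zA_ne S hk, fun p hp => hcent ▸ im_mono f S.J_le hp,
      ⟨zA S, S.z_mem, rfl⟩, card_im_J S hs hk, hc1, hc2, hc3, hc4, hc5,
      hπs.comp (MulEquiv.subgroupCongr hcent).surjective, fun g => hπk _,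
      hcent ▸ card_im_H₀ S hs hk⟩
  obtain ⟨u1, u2, u3, u4, u5⟩ := fixed_image S hU hs hk
  have hF : H38.U6C.Fixed2 (f (zA S)) (im f J) (im f U) :=
    ⟨u1, u2, u3, u4, fun g hg => u5 g (hcent ▸ hg)⟩
  exact dead_of_wc S hs hk (H38.U6C.fixedDirect hB hF)

/-- The case in which `C(z)` fixes `a`. -/
theorem dead_noSwap (S : Setup3 z a J H₀ π) (hU : FixJ z a J H₀ U) (hns : NoSwap z a) :
    Dead z a := by
  haveI := kerA_normal a
  let f := QuotientGroup.mk' (kerA a)
  have hs : Function.Surjective f := QuotientGroup.mk'_surjective _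
  have hk : ∀ g, f g = 1 ↔ ((g : G) = 1 ∨ (g : G) = a) := fun g =>
    (QuotientGroup.eq_one_iff g).trans (mem_kerA S.a_sq g)
  have hle : (Subgroup.centralizer ({z} : Set G)) ≤ Subgroup.centralizer ({a} : Set G) :=
    fun g hg => Subgroup.mem_centralizer_singleton_iff.2 (hns g hg).eq
  have hcent := im_cent S hs hk
  have hH : a ∈ H₀ := S.J_le S.a_mem
  obtain ⟨π', hπs, hπk⟩ := exists_proj S hk
  obtain ⟨hc1, hc2, hc3, hc4, hc5⟩ := core_image S hs hk
  have hS : H2.U6E.Setup (f (zA S)) (im f J) (im f H₀) π' :=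
    { card_F := S.card_F
      sq := zA_sq S
      ne_one := zA_ne S hk
      le_cent := hcent ▸ im_mono f S.le_cent
      J_le := im_mono f S.J_le
      z_mem := ⟨zA S, S.z_mem, rfl⟩
      card_J := card_im_J S hs hk
      conj_mem := hc1
      conj_H₀ := by
        rw [hcent]
        rintro _ ⟨x, hx, rfl⟩ _ ⟨h, hh, rfl⟩
        exact ⟨x * h * x⁻¹, S.conj_H₀ _ hx _ hh, by simp⟩
      out_mul := by
        rw [hcent]
        rintro _ ⟨x, hx, rfl⟩ _ ⟨y, hy, rfl⟩ hxn hyn
        rw [mem_im S hk hH] at hxn hyn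
        rw [← map_mul, mem_im S hk hH]
        exact S.out_mul _ hx _ hy hxn hyn
      sq_mem := hc2
      comm_mem := hc3
      center := hc4
      self_cent := hc5
      inner := by
        rw [hcent]
        rintro _ ⟨x, hx, rfl⟩ hc
        refine (mem_im S hk hH x).2 (S.inner _ hx fun h hh => ?_)
        have := hc (f ⟨h, H₀_le_ca S hh⟩) ⟨_, hh, rfl⟩
        rw [← map_inv, ← map_inv, ← map_mul, ← map_mul, ← map_mul, mem_im S hk S.a_mem] at this
        exact this
      π_surj := hπs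
      π_ker := hπk
      card_cent := by
        have := card_im S hs hk (J_cent S S.a_mem) hle
        rw [S.card_cent] at this
        rw [hcent]
        omega
      card_H₀ := card_im_H₀ S hs hk
      card_psp := S.card_psp
      simple_psp := S.simple_psp }
  obtain ⟨u1, u2, u3, u4, u5⟩ := fixed_image S hU hs hk
  have hUH : im f U ≤ im f H₀ := u1.trans (im_mono f S.J_le)
  have hF : H38.U6C.Fixed2 (G := ↥(im f H₀)) ⟨f (zA S), hS.J_le hS.z_mem⟩
      ((im f J).subgroupOf (im f H₀)) ((im f U).subgroupOf (im f H₀)) := by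
    refine ⟨fun x hx => u1 hx, u2, ?_, fun x hx hc => ?_, fun g _ x hx => ?_⟩
    · rw [Nat.card_congr (Subgroup.subgroupOfEquivOfLe hUH).toEquiv, u3]
    · exact (u4 _ hx fun v hv => congrArg Subtype.val (hc ⟨v, hUH hv⟩ hv).eq).imp
        (fun h => Subtype.ext h) (fun h => Subtype.ext h)
    · exact (u5 _ g.2 _ hx).imp (fun h => Subtype.ext h) (fun h => Subtype.ext h)
  obtain ⟨G₁, hidx, hi⟩ := H64.U6E.indexTwoFixed H46.U6C.fix8 hS _ hF
  have hb := H2.U6E.base_half hS hi
  have hf := H2.U6E.fixed_half hS hi hF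
  exact dead_of_wc S hs hk (wc_of_half hS hi hidx
    (H55.U6C.wc_of_fixed2 hb (H55.U6C.Fx.wcj_fixed hb hf) hf))

/-- With fixed dimensions `z` is isolated in the centraliser of `a`. -/
theorem deadFix : H64.Fi22C.DeadFixStmt.{u, v} := by
  intro G _ _ F _ _ z a J H₀ U π S hU
  by_cases hsw : Swap z a
  · exact dead_swap S hU hsw
  · refine dead_noSwap S hU fun g hg => ?_
    rcases S.conj_a g hg with h | h
    · exact mul_inv_eq_iff_eq_mul.1 h
    · exact absurd ⟨g, hg, h⟩ hsw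

end H79.Fi22C
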